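import Groth.Prelude.Def_Brnch
import Groth.Prelude.Def_CAlg2
import Mathlib.FieldTheory.PurelyInseparable.Basic
import Mathlib.RingTheory.Ideal.MinimalPrime.Basic
import Mathlib.RingTheory.Localization.FractionRing
import Mathlib.RingTheory.LocalRing.ResidueField.Basic

/-!
# One branch means unibranch
-/

set_option autoImplicit false
set_option linter.style.haveILetI false

universe u

namespace Groth.Agent.Unibr10

variable {A : Type u} [CommRing A]

theorem nzd_of_forall_notMem {R : Type u} [CommRing R] [IsReduced R] {c : R}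
    (h : ∀ p ∈ minimalPrimes R, c ∉ p) : c ∈ nonZeroDivisors R := by
  rw [mem_nonZeroDivisors_iff_right]
  intro x hx
  have hmem : x ∈ sInf (minimalPrimes R) :=
    Submodule.mem_sInf.mpr fun p hp => (hp.1.1.mem_or_mem (hx ▸ p.zero_mem)).resolve_right (h p hp)
  rw [minimalPrimes, Ideal.sInf_minimalPrimes, ← Ideal.zero_eq_bot] at hmem
  exact IsNilpotent.eq_zero (mem_nilradical.mp hmem)

theorem idem_eq {S : Type u} [CommRing S] [IsLocalRing S] {e : S} (h : e * (1 - e) = 0) : e = 0 ∨ e = 1 := by
  rcases IsLocalRing.isUnit_or_isUnit_one_sub_self e with hu | hu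
  · exact Or.inr (sub_eq_zero.mp (hu.mul_right_eq_zero.mp h)).symm
  · exact Or.inl (hu.mul_left_eq_zero.mp h)

theorem isDomain_of_normalization_local {R : Type u} [CommRing R] [IsReduced R] [Nontrivial R]
    (hfin : (minimalPrimes R).Finite) [IsLocalRing (integralClosure R (FractionRing R))] : IsDomain R := by
  classical
  obtain ⟨P, hP⟩ := Ideal.nonempty_minimalPrimes (I := (⊥ : Ideal R)) bot_ne_top
  by_cases hone : ∀ Q ∈ minimalPrimes R, Q = P
  · have hP0 : P = ⊥ := by
      refine le_bot_iff.mp fun x hx => ?_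
      have hmem : x ∈ sInf (minimalPrimes R) := Submodule.mem_sInf.mpr fun Q hQ => (hone Q hQ).symm ▸ hx
      rw [minimalPrimes, Ideal.sInf_minimalPrimes, ← Ideal.zero_eq_bot] at hmem
      exact (Submodule.mem_bot R).mpr (IsNilpotent.eq_zero (mem_nilradical.mp hmem))
    haveI : P.IsPrime := hP.1.1
    haveI : (⊥ : Ideal R).IsPrime := hP0 ▸ inferInstance
    exact IsDomain.of_bot_isPrime R
  exfalso
  push_neg at hone
  obtain ⟨Q, hQ, hQP⟩ := hone
  let s := hfin.toFinset.erase P
  have hs : ∀ J ∈ s, J ∈ minimalPrimes R ∧ J ≠ P := fun J hJ =>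
    ⟨hfin.mem_toFinset.mp (Finset.mem_of_mem_erase hJ), Finset.ne_of_mem_erase hJ⟩
  have hQs : Q ∈ s := Finset.mem_erase.mpr ⟨hQP, hfin.mem_toFinset.mpr hQ⟩
  obtain ⟨a, haP, ha⟩ : ∃ a ∈ P, ∀ J ∈ s, a ∉ J := by
    by_contra hcon
    push_neg at hcon
    have hsub : (P : Set R) ⊆ ⋃ J ∈ (s : Set (Ideal R)), (J : Set R) := fun x hx => by
      obtain ⟨J, hJ, hxJ⟩ := hcon x hx
      exact Set.mem_biUnion hJ hxJ
    obtain ⟨J, hJ, hle⟩ := (Ideal.subset_union_prime Q Q fun J hJ _ _ => (hs J hJ).1.1.1).mp hsub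
    exact (hs J hJ).2 (le_antisymm ((hs J hJ).1.2 hP.1 hle) hle)
  obtain ⟨b, hb, hbP⟩ : ∃ b, (∀ J ∈ s, b ∈ J) ∧ b ∉ P := by
    have hb : ∀ J ∈ s, ∃ x ∈ J, x ∉ P := fun J hJ => by
      by_contra hcon
      push_neg at hcon
      exact (hs J hJ).2 (le_antisymm hcon (hP.2 (hs J hJ).1.1 hcon))
    choose x hx hxP using hb
    refine ⟨∏ J ∈ s.attach, x J.1 J.2, fun J hJ =>
      Ideal.mem_of_dvd J (Finset.dvd_prod_of_mem _ (Finset.mem_attach s ⟨J, hJ⟩)) (hx J hJ), fun h => ?_⟩
    obtain ⟨J, -, hJ⟩ := hP.1.1.prod_mem_iff.mp h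
    exact hxP _ _ hJ
  have hmem : ∀ J ∈ minimalPrimes R, J = P ∨ J ∈ s := fun J hJ =>
    (em (J = P)).imp_right fun h => Finset.mem_erase.mpr ⟨h, hfin.mem_toFinset.mpr hJ⟩
  have hab : a * b = 0 := by
    refine IsNilpotent.eq_zero (mem_nilradical.mp ?_)
    rw [nilradical, Ideal.zero_eq_bot, ← Ideal.sInf_minimalPrimes, Submodule.mem_sInf]
    intro J hJ
    rcases hmem J hJ with rfl | hJs
    · exact Ideal.mul_mem_right b _ haP
    · exact Ideal.mul_mem_left _ a (hb J hJs)
  have hc : a + b ∈ nonZeroDivisors R := nzd_of_forall_notMem fun J hJ => by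
    rcases hmem J hJ with rfl | hJs
    · exact fun h => hbP ((J.add_mem_iff_right haP).mp h)
    · exact fun h => ha J hJs ((J.add_mem_iff_left (hb J hJs)).mp h)
  let e : FractionRing R := IsLocalization.mk' (FractionRing R) a (⟨a + b, hc⟩ : nonZeroDivisors R)
  have he : e * algebraMap R (FractionRing R) (a + b) = algebraMap R (FractionRing R) a :=
    IsLocalization.mk'_spec _ _ _
  have hu : IsUnit (algebraMap R (FractionRing R) (a + b)) :=
    IsLocalization.map_units _ (⟨a + b, hc⟩ : nonZeroDivisors R)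
  have hee : e * (1 - e) = 0 := by
    refine (hu.mul hu).mul_left_eq_zero.mp ?_
    have h2 : (algebraMap R (FractionRing R) a) * algebraMap R (FractionRing R) b = 0 := by
      rw [← map_mul, hab, map_zero]
    rw [map_add] at he ⊢
    linear_combination (algebraMap R (FractionRing R) b - e * (algebraMap R (FractionRing R) a + algebraMap R (FractionRing R) b) +
      algebraMap R (FractionRing R) a - algebraMap R (FractionRing R) a) * he + h2
  have hint : IsIntegral R e := by
    refine ⟨Polynomial.X * (Polynomial.X - Polynomial.C 1), Polynomial.monic_X.mul (Polynomial.monic_X_sub_C 1), ?_⟩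
    simp only [Polynomial.eval₂_mul, Polynomial.eval₂_X, Polynomial.eval₂_sub, Polynomial.eval₂_C, Polynomial.eval₂_one, map_one]
    linear_combination -hee
  have hinj := IsFractionRing.injective R (FractionRing R)
  rcases idem_eq (e := (⟨e, hint⟩ : integralClosure R (FractionRing R))) (Subtype.ext hee) with h | h
  · have h' : e = 0 := congrArg Subtype.val h
    rw [h', zero_mul] at he
    exact ha Q hQs (hinj (he.symm.trans (map_zero _).symm) ▸ Q.zero_mem)
  · have h' : e = 1 := congrArg Subtype.val h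
    rw [h', one_mul] at he
    have : b = 0 := by
      have := hinj he
      linear_combination this
    exact hbP (this ▸ P.zero_mem)

theorem isLocalRing_iff_card {S : Type u} [CommRing S] :
    IsLocalRing S ↔ ENat.card (MaximalSpectrum S) = 1 := by
  rw [ENat.card_eq_one_iff_unique, unique_iff_subsingleton_and_nonempty]
  constructor
  · intro h
    obtain ⟨M, hM, huniq⟩ := (IsLocalRing.maximal_ideal_unique S)
    exact ⟨⟨fun x y => MaximalSpectrum.ext ((huniq _ x.2).trans (huniq _ y.2).symm)⟩, ⟨⟨M, hM⟩⟩⟩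
  · rintro ⟨hs, ⟨m⟩⟩
    exact IsLocalRing.of_unique_max_ideal ⟨m.asIdeal, m.2,
      fun I hI => congrArg MaximalSpectrum.asIdeal (Subsingleton.elim (⟨I, hI⟩ : MaximalSpectrum S) m)⟩

variable (A) [IsLocalRing A]

theorem minimalPrimes_red_finite (h : (minimalPrimes A).Finite) : (minimalPrimes (CAlg2.red A)).Finite := by
  refine Set.Finite.of_finite_image ?_ (Ideal.comap_injective_of_surjective _ Ideal.Quotient.mk_surjective).injOn
  refine h.subset ?_
  rintro _ ⟨p, hp, rfl⟩
  have := hp.1.1
  refine ⟨⟨Ideal.IsPrime.comap _, bot_le⟩, fun q hq hqp => ?_⟩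
  haveI := hq.1
  have hker : RingHom.ker (Ideal.Quotient.mk (nilradical A)) ≤ q := by
    rw [Ideal.mk_ker]; exact nilradical_le_prime q
  rw [← Ideal.comap_map_of_surjective _ Ideal.Quotient.mk_surjective q |>.trans (sup_eq_left.mpr hker)]
  refine Ideal.comap_mono (hp.2 ⟨Ideal.map_isPrime_of_surjective Ideal.Quotient.mk_surjective hker, bot_le⟩ ?_)
  exact Ideal.map_le_iff_le_comap.mpr hqp

theorem numBranches_eq_one_iff : Brnch.numBranches A = 1 ↔ CAlg2.IsUnibranch A := by
  classical
  haveI : IsReduced (CAlg2.red A) :=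
    (Ideal.isRadical_iff_quotient_reduced _).mp (Ideal.radical_isRadical _)
  haveI : Nontrivial (CAlg2.red A) := Ideal.Quotient.nontrivial_iff.mpr fun h =>
    (one_ne_zero : (1 : A) ≠ 0) (by
      have : (1 : A) ∈ nilradical A := h ▸ trivial
      exact absurd (mem_nilradical.mp this) not_isNilpotent_one)
  unfold Brnch.numBranches CAlg2.IsUnibranch
  constructor
  · intro h
    by_cases hfin : (minimalPrimes A).Finite
    · rw [if_pos hfin] at h
      haveI := isLocalRing_iff_card.mpr h
      exact ⟨isDomain_of_normalization_local (minimalPrimes_red_finite A hfin), inferInstance⟩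
    · rw [if_neg hfin] at h
      exact absurd h ENat.top_ne_one
  · rintro ⟨hd, hl⟩
    haveI : (nilradical A).IsPrime := Ideal.Quotient.isDomain_iff_prime _ |>.mp hd
    have hfin : (minimalPrimes A).Finite := (Set.finite_singleton (nilradical A)).subset fun p hp => by
      haveI := hp.1.1
      exact le_antisymm (hp.2 ⟨inferInstance, bot_le⟩ (nilradical_le_prime p)) (nilradical_le_prime p)
    rw [if_pos hfin]
    exact isLocalRing_iff_card.mp hl

theorem toResidue_ker (m' : MaximalSpectrum (CAlg2.normRed A)) :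
    RingHom.ker (Brnch.toResidue A m') = IsLocalRing.maximalIdeal A := by
  haveI := m'.2
  let f : A →+* CAlg2.normRed A :=
    (algebraMap (CAlg2.red A) (CAlg2.normRed A)).comp (Ideal.Quotient.mk (nilradical A))
  have hf : f.IsIntegral := (RingHom.isIntegral_of_surjective _ Ideal.Quotient.mk_surjective).trans _ _
    (algebraMap_isIntegral_iff.mpr inferInstance)
  have hk : RingHom.ker (Brnch.toResidue A m') = m'.asIdeal.comap f := by
    rw [Brnch.toResidue, ← RingHom.comap_ker, Ideal.mk_ker]
  rw [hk]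
  exact IsLocalRing.eq_maximalIdeal (Ideal.isMaximal_comap_of_isIntegral_of_isMaximal' f hf m'.asIdeal)

theorem numGeomBranches_eq_one_iff : Brnch.numGeomBranches A = 1 ↔ CAlg2.IsGeomUnibranch A := by
  classical
  let k := IsLocalRing.ResidueField A
  let K := AlgebraicClosure k
  -- the residue extensions
  have key : ∀ m' : MaximalSpectrum (CAlg2.normRed A), Nonempty (Brnch.Emb A m') ∧
      (Subsingleton (Brnch.Emb A m') ↔
        ∀ x : CAlg2.normRed A ⧸ m'.asIdeal,
          ∃ n : ℕ, x ^ (ringExpChar (CAlg2.normRed A ⧸ m'.asIdeal)) ^ n ∈ (Brnch.toResidue A m').range) := by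
    intro m'
    haveI := m'.2
    letI : Field (CAlg2.normRed A ⧸ m'.asIdeal) := Ideal.Quotient.field _
    let L := CAlg2.normRed A ⧸ m'.asIdeal
    let κ : k →+* L := Ideal.Quotient.lift _ (Brnch.toResidue A m') (fun a ha => by
      rw [← RingHom.mem_ker, toResidue_ker]; exact ha)
    letI : Algebra k L := κ.toAlgebra
    have hres : κ.comp (IsLocalRing.residue A) = Brnch.toResidue A m' := Ideal.Quotient.lift_comp_mk _ _ _
    have hint : (Brnch.toResidue A m').IsIntegral := by
      refine RingHom.IsIntegral.trans _ _ ?_ (RingHom.isIntegral_of_surjective _ Ideal.Quotient.mk_surjective)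
      exact (RingHom.isIntegral_of_surjective _ Ideal.Quotient.mk_surjective).trans _ _
        (algebraMap_isIntegral_iff.mpr inferInstance)
    haveI : Algebra.IsIntegral k L := by
      rw [← algebraMap_isIntegral_iff]
      exact RingHom.IsIntegral.tower_top (IsLocalRing.residue A) κ (hres ▸ hint)
    haveI : Algebra.IsAlgebraic k L := Algebra.IsIntegral.isAlgebraic
    have hclo : (algebraMap k K).comp (IsLocalRing.residue A) = Brnch.toClosure A := rfl
    let e : Brnch.Emb A m' ≃ (L →ₐ[k] K) :=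
      { toFun := fun σ => { σ.1 with
          commutes' := fun r => by
            obtain ⟨a, rfl⟩ := IsLocalRing.residue_surjective r
            show σ.1 (κ (IsLocalRing.residue A a)) = algebraMap k K (IsLocalRing.residue A a)
            rw [← RingHom.comp_apply κ, hres, ← RingHom.comp_apply, σ.2]
            exact (RingHom.congr_fun hclo a).symm }
        invFun := fun τ => ⟨τ.toRingHom, by
          rw [← hres, ← RingHom.comp_assoc, ← hclo]
          congr 1
          exact τ.comp_algebraMap⟩
        left_inv := fun σ => rfl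
        right_inv := fun τ => rfl }
    let q := ringExpChar L
    haveI : ExpChar L q := inferInstance
    haveI : ExpChar k q := κ.expChar κ.injective q
    have hr : (Brnch.toResidue A m').range = κ.range := by
      refine le_antisymm ?_ ?_
      · rintro _ ⟨a, rfl⟩; exact ⟨IsLocalRing.residue A a, RingHom.congr_fun hres a⟩
      · rintro _ ⟨r, rfl⟩
        obtain ⟨a, rfl⟩ := IsLocalRing.residue_surjective r
        exact ⟨a, (RingHom.congr_fun hres a).symm⟩
    refine ⟨⟨e.symm (IsAlgClosed.lift (R := k) (S := L) (M := K))⟩, ?_⟩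
    rw [hr]
    constructor
    · intro hs
      haveI : Subsingleton (L →ₐ[k] K) := e.symm.subsingleton
      haveI : Subsingleton (Field.Emb k L) := (Field.embEquivOfIsAlgClosed k L K).subsingleton
      have h1 : Field.finSepDegree k L = 1 := by
        rw [Field.finSepDegree, Nat.card_eq_one_iff_unique]
        exact ⟨inferInstance, ⟨Classical.arbitrary _⟩⟩
      haveI := isPurelyInseparable_of_finSepDegree_eq_one h1
      exact fun x => IsPurelyInseparable.pow_mem k q x
    · intro h
      haveI : IsPurelyInseparable k L := (isPurelyInseparable_iff_pow_mem k q).mpr h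
      exact e.subsingleton
  have hgu : CAlg2.IsGeomUnibranch A ↔ CAlg2.IsUnibranch A ∧
      ∀ m' : MaximalSpectrum (CAlg2.normRed A), ∀ x : CAlg2.normRed A ⧸ m'.asIdeal,
        ∃ n : ℕ, x ^ (ringExpChar (CAlg2.normRed A ⧸ m'.asIdeal)) ^ n ∈ (Brnch.toResidue A m').range :=
    and_congr Iff.rfl ⟨fun h m' => haveI := m'.2; h m'.asIdeal, fun h m' hm' => h ⟨m', hm'⟩⟩
  rw [hgu, ← numBranches_eq_one_iff]
  unfold Brnch.numGeomBranches Brnch.numBranches
  by_cases hfin : (minimalPrimes A).Finite
  · rw [if_pos hfin, if_pos hfin, ENat.card_eq_one_iff_unique, ENat.card_eq_one_iff_unique,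
      unique_iff_subsingleton_and_nonempty, unique_iff_subsingleton_and_nonempty]
    constructor
    · rintro ⟨hs, ⟨σ⟩⟩
      have hsm : Subsingleton (MaximalSpectrum (CAlg2.normRed A)) := ⟨fun x y => by
        obtain ⟨σx⟩ := (key x).1
        obtain ⟨σy⟩ := (key y).1
        exact congrArg Sigma.fst (Subsingleton.elim (⟨x, σx⟩ : Σ m', Brnch.Emb A m') ⟨y, σy⟩)⟩
      exact ⟨⟨hsm, ⟨σ.1⟩⟩, fun m' => (key m').2.mp ⟨fun a b =>
        eq_of_heq (Sigma.mk.inj_iff.mp (Subsingleton.elim (⟨m', a⟩ : Σ m', Brnch.Emb A m') ⟨m', b⟩)).2⟩⟩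
    · rintro ⟨⟨hs, ⟨m⟩⟩, h⟩
      refine ⟨⟨fun x y => ?_⟩, ⟨⟨m, (key m).1.some⟩⟩⟩
      obtain ⟨x, a⟩ := x
      obtain ⟨y, b⟩ := y
      obtain rfl : x = y := Subsingleton.elim x y
      haveI := (key x).2.mpr (h x)
      rw [Subsingleton.elim a b]
  · rw [if_neg hfin, if_neg hfin]
    exact ⟨fun h => absurd h ENat.top_ne_one, fun h => absurd h.1 ENat.top_ne_one⟩

end Groth.Agent.Unibr10
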