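import Groth.Agent.Unibr10.Branches
import Mathlib.RingTheory.Spectrum.Prime.RingHom
import Mathlib.RingTheory.Spectrum.Maximal.Basic
import Mathlib.SetTheory.Cardinal.Finite
import Mathlib.Algebra.BigOperators.Finprod
import Groth.Prelude.Def_EGA4b

/-!
# The normalisation of a reduced ring with finitely many components is a product
-/

set_option autoImplicit false
set_option linter.style.haveILetI false

universe u

namespace Groth.Agent.Unibr10

theorem encard_sigma {ι : Type u} [Fintype ι] (f : ι → Type u) : ENat.card (Σ i, f i) = ∑ i, ENat.card (f i) := by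
  classical
  by_cases h : ∀ i, Finite (f i)
  · simp only [ENat.card_eq_coe_natCard, Nat.card_sigma, Nat.cast_sum]
  · push_neg at h
    obtain ⟨i, hi⟩ := h
    haveI := Infinite.of_injective (fun x : f i => (⟨i, x⟩ : Σ i, f i)) sigma_mk_injective
    rw [ENat.card_eq_top_of_infinite]
    symm
    exact top_le_iff.mp ((ENat.card_eq_top_of_infinite (α := f i)).ge.trans (Finset.single_le_sum (f := fun i => ENat.card (f i)) (fun _ _ => zero_le) (Finset.mem_univ i)))

section Pi

variable {ι : Type u} [Fintype ι] (N : ι → Type u) [∀ i, CommRing (N i)]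

/-- Maximal ideals of a finite product. -/
noncomputable def maximalPiEquiv : (Σ i, MaximalSpectrum (N i)) ≃ MaximalSpectrum (Π i, N i) :=
  Equiv.ofBijective
    (fun m => ⟨m.2.asIdeal.comap (Pi.evalRingHom N m.1),
      haveI := m.2.2; Ideal.comap_isMaximal_of_surjective _ (Function.surjective_eval m.1)⟩)
    ⟨fun a b h => by
      have := PrimeSpectrum.sigmaToPi_injective N (a₁ := ⟨a.1, a.2.toPrimeSpectrum⟩) (a₂ := ⟨b.1, b.2.toPrimeSpectrum⟩)
        (PrimeSpectrum.ext (congrArg MaximalSpectrum.asIdeal h))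
      obtain ⟨i, m⟩ := a
      obtain ⟨j, m'⟩ := b
      obtain ⟨rfl, h'⟩ := Sigma.mk.inj_iff.mp this
      exact congrArg _ (MaximalSpectrum.ext (congrArg PrimeSpectrum.asIdeal (eq_of_heq h'))),
    fun M => by
      obtain ⟨⟨i, p⟩, hp⟩ := (PrimeSpectrum.sigmaToPi_bijective N).2 M.toPrimeSpectrum
      have he : p.asIdeal.comap (Pi.evalRingHom N i) = M.asIdeal := congrArg PrimeSpectrum.asIdeal hp
      have hmax : p.asIdeal.IsMaximal := by
        haveI : (p.asIdeal.comap (Pi.evalRingHom N i)).IsMaximal := he ▸ M.2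
        have := Ideal.map_eq_top_or_isMaximal_of_surjective (Pi.evalRingHom N i) (Function.surjective_eval i) this
        rw [Ideal.map_comap_of_surjective _ (Function.surjective_eval i)] at this
        exact this.resolve_left p.2.ne_top
      exact ⟨⟨i, ⟨p.asIdeal, hmax⟩⟩, MaximalSpectrum.ext he⟩⟩

theorem existsUnique_factor [DecidableEq ι] {K : Type u} [CommRing K] [IsDomain K] (σ : (Π i, N i) →+* K) :
    ∃! i, σ (Pi.single i 1) = 1 := by
  have hid : ∀ i, σ (Pi.single i 1) = 0 ∨ σ (Pi.single i 1) = 1 := fun i => by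
    have h : σ (Pi.single i 1) * σ (Pi.single i 1) = σ (Pi.single i 1) := by
      rw [← map_mul, ← Pi.single_mul, one_mul]
    rcases eq_or_ne (σ (Pi.single i 1)) 0 with h0 | h0
    · exact Or.inl h0
    · exact Or.inr (mul_right_eq_self₀.mp h |>.resolve_right h0)
  have hsum : ∑ i, σ (Pi.single i 1) = 1 := by
    rw [← map_sum, show (∑ i, Pi.single i (1 : N i)) = (1 : Π i, N i) from Finset.univ_sum_single 1, map_one]
  obtain ⟨i, hi⟩ : ∃ i, σ (Pi.single i 1) = 1 := by
    by_contra hcon
    push_neg at hcon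
    rw [Finset.sum_eq_zero fun i _ => (hid i).resolve_right (hcon i)] at hsum
    exact zero_ne_one hsum
  refine ⟨i, hi, fun j hj => ?_⟩
  by_contra hne
  have : (Pi.single i 1 : Π i, N i) * Pi.single j 1 = 0 := by
    funext k
    by_cases hk : k = i
    · subst hk; simp [Ne.symm hne]
    · simp [hk]
  have := congrArg σ this
  rw [map_mul, hi, hj, one_mul, map_zero] at this
  exact one_ne_zero this

/-- Homomorphisms from a finite product to a domain. -/
noncomputable def homPiEquiv (K : Type u) [CommRing K] [IsDomain K] :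
    (Σ i, N i →+* K) ≃ ((Π i, N i) →+* K) := by
  classical
  refine Equiv.ofBijective (fun s => s.2.comp (Pi.evalRingHom N s.1)) ⟨fun a b h => ?_, fun σ => ?_⟩
  · obtain ⟨i, a⟩ := a
    obtain ⟨j, b⟩ := b
    have hij : i = j := (existsUnique_factor N (a.comp (Pi.evalRingHom N i))).unique
      (by simp) (by rw [show a.comp (Pi.evalRingHom N i) = b.comp (Pi.evalRingHom N j) from h]; simp)
    subst hij
    rw [show a = b from RingHom.cancel_right (Function.surjective_eval i) |>.mp h]
  · obtain ⟨i, hi, -⟩ := existsUnique_factor N σ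
    refine ⟨⟨i,
      { toFun := fun x => σ (Pi.single i x)
        map_one' := hi
        map_mul' := fun x y => by rw [← map_mul, ← Pi.single_mul]
        map_zero' := by rw [Pi.single_zero, map_zero]
        map_add' := fun x y => by rw [← map_add, ← Pi.single_add] }⟩, RingHom.ext fun x => ?_⟩
    show σ (Pi.single i (x i)) = σ x
    have : (Pi.single i (x i) : Π i, N i) = Pi.single i 1 * x := by
      funext k
      by_cases hk : k = i
      · subst hk; simp
      · simp [hk]
    rw [this, map_mul, hi, one_mul]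

/-- Compatible geometric points of a product ring. -/
theorem nonempty_pointsEquiv {A M K : Type u} [CommRing A] [CommRing M] [CommRing K] [IsDomain K]
    {A' K' : ι → Type u} [∀ i, CommRing (A' i)] [∀ i, CommRing (K' i)]
    (e : M ≃+* Π i, N i) (f : A →+* M) (g : ∀ i, A →+* A' i) (hg : ∀ i, Function.Surjective (g i))
    (f' : ∀ i, A' i →+* N i) (hf : ∀ a i, e (f a) i = f' i (g i a))
    (c : A →+* K) (c' : ∀ i, A' i →+* K' i) (ε : ∀ i, K ≃+* K' i) (hc : ∀ i a, ε i (c a) = c' i (g i a)) :
    Nonempty ({σ : M →+* K // σ.comp f = c} ≃ Σ i, {τ : N i →+* K' i // τ.comp (f' i) = c' i}) := by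
  refine ⟨(Equiv.ofBijective (fun t : Σ i, {τ : N i →+* K' i // τ.comp (f' i) = c' i} =>
    (⟨(((ε t.1).symm.toRingHom.comp t.2.1).comp (Pi.evalRingHom N t.1)).comp e.toRingHom, RingHom.ext fun a => ?_⟩ :
      {σ : M →+* K // σ.comp f = c})) ⟨?_, ?_⟩).symm⟩
  · show (ε t.1).symm (t.2.1 (e (f a) t.1)) = c a
    rw [hf, RingEquiv.symm_apply_eq, hc]
    exact RingHom.congr_fun t.2.2 _
  · rintro ⟨i, τ⟩ ⟨j, τ'⟩ h
    have h1 := RingHom.cancel_right e.surjective |>.mp (congrArg Subtype.val h)
    have h2 := (homPiEquiv N K).injective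
      (a₁ := ⟨i, (ε i).symm.toRingHom.comp τ.1⟩) (a₂ := ⟨j, (ε j).symm.toRingHom.comp τ'.1⟩) h1
    obtain ⟨rfl, h3⟩ := Sigma.mk.inj_iff.mp h2
    refine congrArg (Sigma.mk i) (Subtype.ext (RingHom.ext fun x => ?_))
    exact (ε i).symm.injective (RingHom.congr_fun (eq_of_heq h3) x)
  · rintro ⟨σ, hσ⟩
    obtain ⟨⟨i, τ⟩, hτ⟩ := (homPiEquiv N K).surjective (σ.comp e.symm.toRingHom)
    have hx : ∀ x, τ (e x i) = σ x := fun x =>
      (RingHom.congr_fun hτ (e x)).trans (congrArg σ (e.symm_apply_apply x))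
    refine ⟨⟨i, (ε i).toRingHom.comp τ, RingHom.ext fun b => ?_⟩, Subtype.ext (RingHom.ext fun x => ?_)⟩
    · obtain ⟨a, rfl⟩ := hg i b
      show ε i (τ (f' i (g i a))) = c' i (g i a)
      rw [← hf, hx, ← hc]
      exact congrArg (ε i) (RingHom.congr_fun hσ a)
    · show (ε i).symm (ε i (τ (e x i))) = σ x
      rw [RingEquiv.symm_apply_apply, hx]

end Pi

section Components

variable {R : Type u} [CommRing R] [IsReduced R] {ι : Type u} [Fintype ι] {S : ι → Type u} [∀ i, CommRing (S i)]
  [∀ i, IsDomain (S i)] (φ : ∀ i, R →+* S i) (hφ : ∀ i, Function.Surjective (φ i))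
  (hinc : ∀ i j, i ≠ j → ∃ x, φ j x = 0 ∧ φ i x ≠ 0) (hjoint : ∀ x, (∀ i, φ i x = 0) → x = 0)

include hinc in
theorem exists_separator : ∃ a : ι → R, ∀ i, φ i (a i) ≠ 0 ∧ ∀ j, j ≠ i → φ j (a i) = 0 := by
  classical
  choose x hx hx' using hinc
  refine ⟨fun i => ∏ j : {j // j ≠ i}, x i j.1 j.2.symm, fun i => ⟨?_, fun j hj => ?_⟩⟩
  · rw [map_prod, Finset.prod_ne_zero_iff]
    exact fun j _ => hx' i j.1 j.2.symm
  · rw [map_prod]
    exact Finset.prod_eq_zero (Finset.mem_univ ⟨j, hj⟩) (hx i j hj.symm)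

include hjoint in
theorem nzd_of_ne_zero {c : R} (h : ∀ i, φ i c ≠ 0) : c ∈ nonZeroDivisors R := by
  rw [mem_nonZeroDivisors_iff_right]
  exact fun x hx => hjoint x fun i => (mul_eq_zero.mp ((map_mul (φ i) x c).symm.trans (hx ▸ map_zero (φ i)))).resolve_right (h i)

include hinc in
theorem ne_zero_of_nzd {c : R} (h : c ∈ nonZeroDivisors R) (hjoint : ∀ x, (∀ i, φ i x = 0) → x = 0) (i : ι) :
    φ i c ≠ 0 := by
  obtain ⟨a, ha⟩ := exists_separator φ hinc
  intro hc
  have : a i * c = 0 := hjoint _ fun j => by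
    rw [map_mul]
    by_cases hj : j = i
    · subst hj; rw [hc, mul_zero]
    · rw [(ha i).2 j hj, zero_mul]
  exact (ha i).1 (by rw [(mem_nonZeroDivisors_iff_right.mp h) _ this, map_zero])

/-- The map from the fraction ring to the product. -/
noncomputable def fracToPi : FractionRing R →+* Π i, FractionRing (S i) :=
  Pi.ringHom fun i => IsLocalization.lift (M := nonZeroDivisors R) (S := FractionRing R)
    (g := (algebraMap (S i) (FractionRing (S i))).comp (φ i)) fun c =>
      isUnit_iff_ne_zero.mpr ((map_ne_zero_iff _ (IsFractionRing.injective (S i) (FractionRing (S i)))).mpr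
        (ne_zero_of_nzd φ hinc c.2 hjoint i))

theorem fracToPi_algebraMap (r : R) (i : ι) :
    fracToPi φ hinc hjoint (algebraMap R (FractionRing R) r) i = algebraMap (S i) (FractionRing (S i)) (φ i r) :=
  IsLocalization.lift_eq _ r

include hφ in
theorem fracToPi_bijective : Function.Bijective (fracToPi φ hinc hjoint) := by
  classical
  constructor
  · refine (injective_iff_map_eq_zero _).mpr fun x hx => ?_
    obtain ⟨a, c, rfl⟩ := IsLocalization.exists_mk'_eq (nonZeroDivisors R) x
    have ha : a = 0 := hjoint a fun i => by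
      have h1 := congrArg (fun y => fracToPi φ hinc hjoint y i) (IsLocalization.mk'_spec (FractionRing R) a c)
      simp only [map_mul, Pi.mul_apply, hx, Pi.zero_apply, zero_mul, fracToPi_algebraMap] at h1
      exact IsFractionRing.injective (S i) (FractionRing (S i)) (h1.symm.trans (map_zero _).symm)
    rw [ha, IsLocalization.mk'_zero]
  · intro y
    obtain ⟨a, ha⟩ := exists_separator φ hinc
    have hy : ∀ i, ∃ n d : R, φ i d ≠ 0 ∧
        y i * algebraMap (S i) (FractionRing (S i)) (φ i d) = algebraMap (S i) (FractionRing (S i)) (φ i n) := fun i => by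
      obtain ⟨s, t, hst⟩ := IsLocalization.exists_mk'_eq (nonZeroDivisors (S i)) (y i)
      obtain ⟨n, rfl⟩ := hφ i s
      obtain ⟨d, hd⟩ := hφ i t.1
      refine ⟨n, d, hd ▸ nonZeroDivisors.ne_zero t.2, ?_⟩
      rw [hd, ← hst, IsLocalization.mk'_spec]
    choose n d hd hnd using hy
    let c := ∑ i, a i * d i
    have hsum : ∀ (z : ι → R) (i : ι), φ i (∑ j, a j * z j) = φ i (a i) * φ i (z i) := fun z i => by
      rw [map_sum, Finset.sum_eq_single i (fun j _ hj => by rw [map_mul, (ha j).2 i (Ne.symm hj), zero_mul])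
        (fun h => absurd (Finset.mem_univ i) h), map_mul]
    have hc : c ∈ nonZeroDivisors R := nzd_of_ne_zero φ hjoint fun i => by
      rw [hsum]; exact mul_ne_zero (ha i).1 (hd i)
    refine ⟨IsLocalization.mk' (FractionRing R) (∑ i, a i * n i) (⟨c, hc⟩ : nonZeroDivisors R), funext fun i => ?_⟩
    have h1 := congrArg (fun y => fracToPi φ hinc hjoint y i)
      (IsLocalization.mk'_spec (FractionRing R) (∑ i, a i * n i) (⟨c, hc⟩ : nonZeroDivisors R))
    simp only [map_mul, Pi.mul_apply, fracToPi_algebraMap] at h1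
    rw [show φ i c = φ i (a i) * φ i (d i) from hsum d i, hsum n i, map_mul, map_mul, ← hnd i] at h1
    have hne : algebraMap (S i) (FractionRing (S i)) (φ i (a i)) * algebraMap (S i) (FractionRing (S i)) (φ i (d i)) ≠ 0 :=
      mul_ne_zero ((map_ne_zero_iff _ (IsFractionRing.injective (S i) (FractionRing (S i)))).mpr (ha i).1)
        ((map_ne_zero_iff _ (IsFractionRing.injective (S i) (FractionRing (S i)))).mpr (hd i))
    exact mul_right_cancel₀ hne (h1.trans (by ring))

include hφ hinc hjoint in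
theorem exists_normalization_equiv :
    ∃ e : integralClosure R (FractionRing R) ≃+* Π i, integralClosure (S i) (FractionRing (S i)),
      ∀ r i, e (algebraMap R _ r) i = algebraMap (S i) _ (φ i r) := by
  classical
  let E := RingEquiv.ofBijective (fracToPi φ hinc hjoint) (fracToPi_bijective φ hφ hinc hjoint)
  letI : ∀ i, Algebra R (S i) := fun i => (φ i).toAlgebra
  haveI hRS : ∀ i, Algebra.IsIntegral R (S i) := fun i => ⟨fun s => by
    obtain ⟨r, rfl⟩ := hφ i s
    exact isIntegral_algebraMap⟩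
  let E' : FractionRing R ≃ₐ[R] Π i, FractionRing (S i) :=
    { E with commutes' := fun r => funext fun i => fracToPi_algebraMap φ hinc hjoint r i }
  have hmem : ∀ x : FractionRing R, IsIntegral R x ↔ ∀ i, IsIntegral (S i) (E' x i) := fun x => by
    constructor
    · intro hx i
      exact (((hx.map E').map (Pi.evalAlgHom R (fun i => FractionRing (S i)) i))).tower_top
    · intro hx
      have hy : ∀ i, IsIntegral R (E' x i) := fun i => isIntegral_trans _ (hx i)
      choose p hp hp0 using hy
      have : IsIntegral R (E' x) := by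
        refine ⟨∏ i, p i, Polynomial.monic_prod_of_monic _ _ fun i _ => hp i, funext fun i => ?_⟩
        rw [← Polynomial.aeval_def, Pi.zero_apply]
        show Pi.evalAlgHom R (fun i => FractionRing (S i)) i (Polynomial.aeval (E' x) (∏ j, p j)) = 0
        rw [← Polynomial.aeval_algHom_apply, map_prod]
        exact Finset.prod_eq_zero (Finset.mem_univ i) (hp0 i)
      simpa using this.map E'.symm
  let f : integralClosure R (FractionRing R) →+* Π i, integralClosure (S i) (FractionRing (S i)) :=
    Pi.ringHom fun i =>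
      { toFun := fun x => ⟨E' x.1 i, (hmem x.1).mp x.2 i⟩
        map_one' := Subtype.ext (by simp)
        map_mul' := fun x y => Subtype.ext (by simp)
        map_zero' := Subtype.ext (by simp)
        map_add' := fun x y => Subtype.ext (by simp) }
  have hf : Function.Bijective f := by
    refine ⟨fun x y h => Subtype.ext (E'.injective (funext fun i => congrArg Subtype.val (congrFun h i))), fun y => ?_⟩
    have hy : ∀ i, E' (E'.symm fun i => (y i).1) i = (y i).1 := fun i =>
      congrFun (E'.apply_symm_apply (fun i => (y i).1)) i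
    exact ⟨⟨E'.symm fun i => (y i).1, (hmem _).mpr fun i => by rw [hy]; exact (y i).2⟩,
      funext fun i => Subtype.ext (hy i)⟩
  exact ⟨RingEquiv.ofBijective f hf, fun r i => Subtype.ext (fracToPi_algebraMap φ hinc hjoint r i)⟩

end Components

variable (A : Type u) [CommRing A]

/-- The map to the normalisation of the reduction. -/
noncomputable def toNormRed : A →+* CAlg2.normRed A :=
  (algebraMap (CAlg2.red A) (CAlg2.normRed A)).comp (Ideal.Quotient.mk (nilradical A))

theorem exists_normRed_equiv (h : (minimalPrimes A).Finite) :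
    ∃ e : CAlg2.normRed A ≃+* Π p : minimalPrimes A, CAlg2.normRed (A ⧸ p.1),
      ∀ a p, e (toNormRed A a) p = toNormRed (A ⧸ p.1) (Ideal.Quotient.mk p.1 a) := by
  haveI := h.to_subtype
  letI := Fintype.ofFinite (minimalPrimes A)
  haveI : IsReduced (CAlg2.red A) := (Ideal.isRadical_iff_quotient_reduced _).mp (Ideal.radical_isRadical _)
  haveI hpr : ∀ p : minimalPrimes A, p.1.IsPrime := fun p => p.2.1.1
  have hnil : ∀ p : minimalPrimes A, nilradical (A ⧸ p.1) = ⊥ := fun p => nilradical_eq_zero _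
  haveI : ∀ p : minimalPrimes A, IsDomain (CAlg2.red (A ⧸ p.1)) := fun p =>
    (Ideal.Quotient.isDomain_iff_prime _).mpr (hnil p ▸ Ideal.isPrime_bot)
  let g : ∀ p : minimalPrimes A, A →+* CAlg2.red (A ⧸ p.1) := fun p =>
    (Ideal.Quotient.mk (nilradical (A ⧸ p.1))).comp (Ideal.Quotient.mk p.1)
  have hg : ∀ p a, g p a = 0 ↔ a ∈ p.1 := fun p a => by
    show Ideal.Quotient.mk _ (Ideal.Quotient.mk p.1 a) = 0 ↔ _
    rw [Ideal.Quotient.eq_zero_iff_mem, hnil p, Ideal.mem_bot, Ideal.Quotient.eq_zero_iff_mem]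
  let φ : ∀ p : minimalPrimes A, CAlg2.red A →+* CAlg2.red (A ⧸ p.1) := fun p =>
    Ideal.Quotient.lift _ (g p) fun a ha => (hg p a).mpr (nilradical_le_prime p.1 ha)
  obtain ⟨e, he⟩ := exists_normalization_equiv φ
    (fun p y => by
      obtain ⟨y, rfl⟩ := Ideal.Quotient.mk_surjective y
      obtain ⟨a, rfl⟩ := Ideal.Quotient.mk_surjective y
      exact ⟨Ideal.Quotient.mk _ a, rfl⟩)
    (fun i j hij => by
      obtain ⟨a, ha, ha'⟩ := SetLike.not_le_iff_exists.mp fun hle : j.1 ≤ i.1 =>
        hij (Subtype.ext (le_antisymm (i.2.2 ⟨hpr j, bot_le⟩ hle) hle))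
      exact ⟨Ideal.Quotient.mk _ a, (hg j a).mpr ha, fun h0 => ha' ((hg i a).mp h0)⟩)
    (fun x hx => by
      obtain ⟨a, rfl⟩ := Ideal.Quotient.mk_surjective x
      rw [Ideal.Quotient.eq_zero_iff_mem, nilradical, Ideal.zero_eq_bot, ← Ideal.sInf_minimalPrimes, Submodule.mem_sInf]
      exact fun p hp => (hg ⟨p, hp⟩ a).mp (hx ⟨p, hp⟩))
  exact ⟨e, fun a p => he (Ideal.Quotient.mk _ a) p⟩

theorem minimalPrimes_finite_of_isDomain (R : Type u) [CommRing R] [IsDomain R] : (minimalPrimes R).Finite := by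
  refine (Set.finite_singleton (⊥ : Ideal R)).subset fun p hp => ?_
  exact le_antisymm (hp.2 ⟨Ideal.isPrime_bot, le_rfl⟩ bot_le) bot_le

variable [IsLocalRing A]

theorem numBranches_eq_finsum (h : (minimalPrimes A).Finite) :
    Brnch.numBranches A =
      ∑ᶠ p : minimalPrimes A,
        haveI : p.1.IsPrime := p.2.1.1
        Brnch.numBranches (A ⧸ p.1) := by
  classical
  haveI := h.to_subtype
  letI := Fintype.ofFinite (minimalPrimes A)
  haveI hpr : ∀ p : minimalPrimes A, p.1.IsPrime := fun p => p.2.1.1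
  obtain ⟨e, -⟩ := exists_normRed_equiv A h
  rw [finsum_eq_sum_of_fintype]
  unfold Brnch.numBranches
  rw [if_pos h]
  refine Eq.trans ?_ ((encard_sigma fun p : minimalPrimes A => MaximalSpectrum (CAlg2.normRed (A ⧸ p.1))).trans
    (Finset.sum_congr rfl fun p _ => (if_pos (minimalPrimes_finite_of_isDomain (A ⧸ p.1))).symm))
  refine ENat.card_congr (Equiv.trans ?_ (maximalPiEquiv fun p : minimalPrimes A => CAlg2.normRed (A ⧸ p.1)).symm)
  exact
    { toFun := fun m => ⟨m.asIdeal.comap (e.symm : _ →+* _), haveI := m.2; Ideal.comap_isMaximal_of_surjective _ e.symm.surjective⟩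
      invFun := fun m => ⟨m.asIdeal.comap (e : _ →+* _), haveI := m.2; Ideal.comap_isMaximal_of_surjective _ e.surjective⟩
      left_inv := fun m => MaximalSpectrum.ext (Ideal.ext fun x => by
        show e.symm (e x) ∈ m.asIdeal ↔ _
        rw [e.symm_apply_apply])
      right_inv := fun m => MaximalSpectrum.ext (Ideal.ext fun x => by
        show e (e.symm x) ∈ m.asIdeal ↔ _
        rw [e.apply_symm_apply]) }

/-- Geometric points of the normalisation over a fixed geometric closed point. -/
noncomputable def embSigmaEquiv :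
    (Σ m' : MaximalSpectrum (CAlg2.normRed A), Brnch.Emb A m') ≃
      {σ : CAlg2.normRed A →+* AlgebraicClosure (IsLocalRing.ResidueField A) //
        σ.comp (toNormRed A) = Brnch.toClosure A} := by
  have hker : ∀ (σ : CAlg2.normRed A →+* AlgebraicClosure (IsLocalRing.ResidueField A)),
      σ.comp (toNormRed A) = Brnch.toClosure A → (RingHom.ker σ).IsMaximal := fun σ hσ => by
    haveI : (RingHom.ker σ).IsPrime := RingHom.ker_isPrime σ
    have hint : (toNormRed A).IsIntegral := (RingHom.isIntegral_of_surjective _ Ideal.Quotient.mk_surjective).trans _ _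
      (algebraMap_isIntegral_iff.mpr inferInstance)
    refine Ideal.isMaximal_of_isIntegral_of_isMaximal_comap' (toNormRed A) hint _ ?_
    rw [RingHom.comap_ker, hσ, Brnch.toClosure, ← RingHom.comap_ker,
      (RingHom.injective_iff_ker_eq_bot _).mp
        (algebraMap (IsLocalRing.ResidueField A) (AlgebraicClosure (IsLocalRing.ResidueField A))).injective]
    rw [show (⊥ : Ideal (IsLocalRing.ResidueField A)).comap (IsLocalRing.residue A) = IsLocalRing.maximalIdeal A from
      IsLocalRing.ker_residue]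
    exact IsLocalRing.maximalIdeal.isMaximal A
  refine Equiv.ofBijective (fun s => ⟨s.2.1.comp (Ideal.Quotient.mk s.1.asIdeal),
    (RingHom.comp_assoc _ _ _).trans s.2.2⟩) ⟨fun a b hab => ?_, fun σ => ?_⟩
  · obtain ⟨m, a⟩ := a
    obtain ⟨m', b⟩ := b
    have h1 : a.1.comp (Ideal.Quotient.mk m.asIdeal) = b.1.comp (Ideal.Quotient.mk m'.asIdeal) :=
      congrArg Subtype.val hab
    haveI := m.2
    haveI := m'.2
    letI : Field (CAlg2.normRed A ⧸ m.asIdeal) := Ideal.Quotient.field _
    letI : Field (CAlg2.normRed A ⧸ m'.asIdeal) := Ideal.Quotient.field _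
    have hm : m = m' := MaximalSpectrum.ext (by
      have := congrArg RingHom.ker h1
      rwa [← RingHom.comap_ker, ← RingHom.comap_ker, (RingHom.injective_iff_ker_eq_bot _).mp a.1.injective,
        (RingHom.injective_iff_ker_eq_bot _).mp b.1.injective, ← RingHom.ker_eq_comap_bot, ← RingHom.ker_eq_comap_bot,
        Ideal.mk_ker, Ideal.mk_ker] at this)
    subst hm
    rw [show a = b from Subtype.ext (RingHom.cancel_right Ideal.Quotient.mk_surjective |>.mp h1)]
  · refine ⟨⟨⟨RingHom.ker σ.1, hker σ.1 σ.2⟩, ⟨RingHom.kerLift σ.1, ?_⟩⟩, Subtype.ext (RingHom.ext fun x => rfl)⟩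
    exact σ.2

theorem numGeomBranches_eq_finsum (h : (minimalPrimes A).Finite) :
    Brnch.numGeomBranches A =
      ∑ᶠ p : minimalPrimes A,
        haveI : p.1.IsPrime := p.2.1.1
        Brnch.numGeomBranches (A ⧸ p.1) := by
  classical
  haveI := h.to_subtype
  letI := Fintype.ofFinite (minimalPrimes A)
  haveI hpr : ∀ p : minimalPrimes A, p.1.IsPrime := fun p => p.2.1.1
  obtain ⟨e, he⟩ := exists_normRed_equiv A h
  rw [finsum_eq_sum_of_fintype]
  unfold Brnch.numGeomBranches
  rw [if_pos h]
  refine Eq.trans ?_ ((encard_sigma fun p : minimalPrimes A =>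
    Σ m', Brnch.Emb (A ⧸ p.1) m').trans
    (Finset.sum_congr rfl fun p _ => (if_pos (minimalPrimes_finite_of_isDomain (A ⧸ p.1))).symm))
  refine ENat.card_congr ((embSigmaEquiv A).trans ?_)
  let K := AlgebraicClosure (IsLocalRing.ResidueField A)
  -- compare the closures of the residue fields
  let r : ∀ p : minimalPrimes A, IsLocalRing.ResidueField A ≃+* IsLocalRing.ResidueField (A ⧸ p.1) := fun p =>
    haveI : IsLocalHom (Ideal.Quotient.mk p.1) := .of_surjective _ Ideal.Quotient.mk_surjective
    RingEquiv.ofBijective (IsLocalRing.ResidueField.map (Ideal.Quotient.mk p.1))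
      ⟨RingHom.injective _, fun y => by
        obtain ⟨b, rfl⟩ := IsLocalRing.residue_surjective y
        obtain ⟨a, rfl⟩ := Ideal.Quotient.mk_surjective b
        exact ⟨IsLocalRing.residue A a, rfl⟩⟩
  let ε : ∀ p : minimalPrimes A, K ≃+* AlgebraicClosure (IsLocalRing.ResidueField (A ⧸ p.1)) := fun p =>
    IsAlgClosure.equivOfEquiv _ _ (r p)
  have hε : ∀ (p : minimalPrimes A) (a : A),
      ε p (Brnch.toClosure A a) = Brnch.toClosure (A ⧸ p.1) (Ideal.Quotient.mk p.1 a) := fun p a =>
    IsAlgClosure.equivOfEquiv_algebraMap _ _ (r p) (IsLocalRing.residue A a)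
  refine Equiv.trans ?_ (Equiv.sigmaCongrRight fun p : minimalPrimes A => (embSigmaEquiv (A ⧸ p.1)).symm)
  exact (nonempty_pointsEquiv (fun p : minimalPrimes A => CAlg2.normRed (A ⧸ p.1)) e (toNormRed A)
    (fun p => Ideal.Quotient.mk p.1) (fun p => Ideal.Quotient.mk_surjective) (fun p => toNormRed (A ⧸ p.1)) he
    (Brnch.toClosure A) (fun p => Brnch.toClosure (A ⧸ p.1)) ε hε).some

end Groth.Agent.Unibr10
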